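import Groth.Agent.RCFree24.RootDeriv
import Groth.Agent.RCVan24.VeryFree

/-!
# A nonconstant rational curve has a nonzero pairing with differentials
-/

set_option autoImplicit false
set_option linter.style.haveILetI false
set_option linter.unusedSectionVars false
set_option backward.isDefEq.respectTransparency false
set_option backward.isDefEq.respectTransparency.types false
set_option maxHeartbeats 2000000

universe u

open CategoryTheory CategoryTheory.Limits AlgebraicGeometry Opposite TopologicalSpace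
open Groth.Agent.Coherent Groth.Agent.PicLib Groth.Agent.AmpleLib Groth.Agent.P1SC24 Groth.Agent.EmbLib24
open Groth.Agent.RCVan24

noncomputable section

namespace Groth.Agent.RCFree24

variable {k : Type u} [Field k]

instance isIntegral_P1 : IsIntegral (CohB1.ProjSpace 1 k) := CurveLib.isIntegral_projSpace k 1

local notation "P" => CohB1.ProjSpace 1 k

local notation "η" => genericPoint (CohB1.ProjSpace 1 k)

variable (k) in
theorem mem_of_nonempty {W : (P).Opens} (h : (W : Set (P)).Nonempty) : η ∈ W :=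
  ((genericPoint_spec (P)).mem_open_set_iff W.2).2 (by simpa using h)

theorem nonempty_chart (c : Fin (1 + 1)) : ((chart 1 k c : (P).Opens) : Set (P)).Nonempty := by
  by_contra h
  have he : chart 1 k c = ⊥ := Opens.ext (Set.not_nonempty_iff_eq_empty.1 h)
  have h1 : (1 : Γ(P, chart 1 k c)) = 0 := by
    refine AmpleLib.sec_ext (Coh.structureModule (P)) _ _ fun z hz => absurd hz ?_
    rw [he]; exact fun h => h
  have h2 : chartRing k c 1 = chartRing k c 0 := by rw [map_one, map_zero]; exact h1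
  exact one_ne_zero ((bijective_chartRing k c).1 h2)

theorem mem_chart (c : Fin (1 + 1)) : η ∈ chart 1 k c := mem_of_nonempty k (nonempty_chart c)

theorem mem_overlap : η ∈ overlap k := by rw [overlap_eq]; exact ⟨mem_chart 0, mem_chart 1⟩

/-- A chart ring inside the function field. -/
def iota (c : Fin (1 + 1)) : Polynomial k →+* (P).functionField :=
  ((P).presheaf.germ (chart 1 k c) η (mem_chart c)).hom.comp (chartRing k c)

theorem isRat_iota (c : Fin (1 + 1)) : IsRat (iota (k := k) c) where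
  inj := (germ_injective_of_isIntegral (P) η (mem_chart c)).comp (bijective_chartRing k c).1
  surj y := by
    haveI : Nonempty ↑((chart 1 k c).toScheme) := ⟨⟨η, mem_chart c⟩⟩
    haveI := functionField_isFractionRing_of_isAffineOpen (P) (chart 1 k c) (isAffineOpen_chart c)
    obtain ⟨a, b, hb, rfl⟩ := IsFractionRing.div_surjective Γ(P, chart 1 k c) y
    obtain ⟨a', rfl⟩ := (bijective_chartRing k c).2 a
    obtain ⟨b', rfl⟩ := (bijective_chartRing k c).2 b
    exact ⟨a', b', fun h => nonZeroDivisors.ne_zero hb (by rw [h, map_zero]), rfl⟩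

theorem iota_C (c : Fin (1 + 1)) (a : k) :
    iota c (Polynomial.C a) = (P).presheaf.germ ⊤ η trivial (ProjUP.toGlobal (CohB1.ProjSpace.toSpec 1 k) a) := by
  show (P).presheaf.germ _ η _ (chartRing k c _) = _
  rw [chartRing_C]
  exact germ_gl _ _ a

theorem iota_X : iota (k := k) 0 Polynomial.X * iota 1 Polynomial.X = 1 := by
  have h := congrArg ((P).presheaf.germ (overlap k) η mem_overlap) (toOverlap_X_mul k)
  rw [map_mul, map_one] at h
  refine Eq.trans ?_ h
  congr 1 <;> exact ((P).presheaf.germ_res_apply _ η _ _).symm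

theorem exists_prime (c : Fin (1 + 1)) {x : P} (hx : x ∈ chart 1 k c) :
    ∃ Q : Ideal (Polynomial k), Q.IsPrime ∧ ∀ (W : (P).Opens) (hxW : x ∈ W) (z : Γ(P, W)),
      Reg (iota c) Q ((P).presheaf.germ W η (mem_of_nonempty k ⟨x, hxW⟩) z) := by
  let hU := isAffineOpen_chart (k := k) c
  refine ⟨(hU.primeIdealOf ⟨x, hx⟩).asIdeal.comap (chartRing k c), Ideal.IsPrime.comap _, fun W hxW z => ?_⟩
  letI := TopCat.Presheaf.algebra_section_stalk (P).presheaf (⟨x, hx⟩ : chart 1 k c)
  haveI : IsLocalization.AtPrime ((P).presheaf.stalk x) (hU.primeIdealOf ⟨x, hx⟩).asIdeal :=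
    hU.isLocalization_stalk ⟨x, hx⟩
  obtain ⟨⟨a, b⟩, hab⟩ := IsLocalization.surj (hU.primeIdealOf ⟨x, hx⟩).asIdeal.primeCompl
    ((P).presheaf.germ W x hxW z)
  obtain ⟨a', rfl⟩ := (bijective_chartRing k c).2 a
  obtain ⟨b', hb'⟩ := (bijective_chartRing k c).2 b.1
  have hbQ : b' ∉ (hU.primeIdealOf ⟨x, hx⟩).asIdeal.comap (chartRing k c) := fun h => b.2 (by rw [← hb']; exact h)
  refine ⟨a', b', hbQ, ?_⟩
  have hb0 : b' ≠ 0 := fun h => hbQ (h ▸ Ideal.zero_mem _)
  rw [eq_div_iff ((isRat_iota c).ne_zero hb0)]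
  have hsp : η ⤳ x := (genericPoint_spec (P)).specializes trivial
  have h := congrArg ((P).presheaf.stalkSpecializes hsp) hab
  rw [map_mul] at h
  change _ * (P).presheaf.stalkSpecializes hsp ((P).presheaf.germ _ x hx b.1) =
    (P).presheaf.stalkSpecializes hsp ((P).presheaf.germ _ x hx _) at h
  rw [← hb', TopCat.Presheaf.germ_stalkSpecializes_apply, TopCat.Presheaf.germ_stalkSpecializes_apply,
    TopCat.Presheaf.germ_stalkSpecializes_apply] at h
  exact h

/-- The point at the generic point. -/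
abbrev genMap : Spec ((P).presheaf.stalk η) ⟶ P := (P).fromSpecStalk η

/-- The module of rational functions. -/
abbrev ratMod : (P).Modules := (Scheme.Modules.pushforward (genMap (k := k))).obj (Coh.structureModule _)

theorem preimage_genMap {W : (P).Opens} (h : η ∈ W) : genMap (k := k) ⁻¹ᵁ W = ⊤ := by
  refine top_le_iff.1 fun z _ => ?_
  show genMap z ∈ W
  haveI : Subsingleton ↥(Spec ((P).presheaf.stalk η)) :=
    inferInstanceAs (Subsingleton (PrimeSpectrum (P).functionField))
  rw [Subsingleton.elim z (IsLocalRing.closedPoint _), Scheme.fromSpecStalk_closedPoint]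
  exact h

theorem preimage_genMap_bot {W : (P).Opens} (h : η ∉ W) : genMap (k := k) ⁻¹ᵁ W = ⊥ := by
  refine le_bot_iff.1 fun z hz => h ?_
  haveI : Subsingleton ↥(Spec ((P).presheaf.stalk η)) :=
    inferInstanceAs (Subsingleton (PrimeSpectrum (P).functionField))
  have hz' : genMap z ∈ W := hz
  rwa [Subsingleton.elim z (IsLocalRing.closedPoint _), Scheme.fromSpecStalk_closedPoint] at hz'

/-- Evaluation of sections at the generic point. -/
def evR {W : (P).Opens} (h : η ∈ W) :
    Γ(Spec ((P).presheaf.stalk η), genMap (k := k) ⁻¹ᵁ W) →+* (P).functionField :=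
  ((Spec ((P).presheaf.stalk η)).presheaf.map (homOfLE (preimage_genMap h).ge).op ≫
    (Scheme.ΓSpecIso ((P).presheaf.stalk η)).hom).hom

/-- Constants among the sections. -/
def inE (W : (P).Opens) : (P).functionField →+* Γ(Spec ((P).presheaf.stalk η), genMap (k := k) ⁻¹ᵁ W) :=
  ((Scheme.ΓSpecIso ((P).presheaf.stalk η)).inv ≫
    (Spec ((P).presheaf.stalk η)).presheaf.map (homOfLE le_top).op).hom

theorem evR_inE {W : (P).Opens} (h : η ∈ W) (y : (P).functionField) : evR h (inE W y) = y := by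
  have e : ((Scheme.ΓSpecIso ((P).presheaf.stalk η)).inv ≫
      (Spec ((P).presheaf.stalk η)).presheaf.map (homOfLE (le_top : genMap (k := k) ⁻¹ᵁ W ≤ ⊤)).op) ≫
      (Spec ((P).presheaf.stalk η)).presheaf.map (homOfLE (preimage_genMap h).ge).op ≫
      (Scheme.ΓSpecIso ((P).presheaf.stalk η)).hom = 𝟙 _ := by
    simp only [Category.assoc, ← Functor.map_comp_assoc, ← op_comp]
    rw [show (homOfLE (preimage_genMap h).ge ≫ homOfLE le_top : (⊤ : (Spec ((P).presheaf.stalk η)).Opens) ⟶ ⊤) = 𝟙 _
      from Subsingleton.elim _ _, op_id, CategoryTheory.Functor.map_id, Category.id_comp, Iso.inv_hom_id]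
  exact congr($e y)

theorem inE_res {W W' : (P).Opens} (hle : W' ≤ W) (y : (P).functionField) :
    (Spec ((P).presheaf.stalk η)).presheaf.map (homOfLE (genMap.preimage_mono hle)).op (inE W y) = inE W' y := by
  show (((Scheme.ΓSpecIso _).inv ≫ (Spec _).presheaf.map _) ≫ (Spec _).presheaf.map _) y = _
  rw [Category.assoc, ← Functor.map_comp]
  rfl

theorem app_genMap {W : (P).Opens} (h : η ∈ W) (z : Γ(P, W)) :
    (genMap (k := k)).app W z = inE W ((P).presheaf.germ W η h z) := by
  rw [Scheme.fromSpecStalk_app h]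
  rfl

theorem evR_app {W : (P).Opens} (h : η ∈ W) (z : Γ(P, W)) :
    evR h ((genMap (k := k)).app W z) = (P).presheaf.germ W η h z := by
  rw [app_genMap h, evR_inE]

/-- The value of a section of `ratMod`. -/
def ev {W : (P).Opens} (h : η ∈ W) (m : Γ(ratMod (k := k), W)) : (P).functionField := evR h m

theorem ev_smul {W : (P).Opens} (h : η ∈ W) (z : Γ(P, W)) (m : Γ(ratMod (k := k), W)) :
    ev h (z • m) = (P).presheaf.germ W η h z * ev h m := by
  show evR h ((genMap (k := k)).app W z * (show Γ(Spec _, genMap (k := k) ⁻¹ᵁ W) from m)) = _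
  rw [map_mul, evR_app]
  rfl

theorem ev_res {W W' : (P).Opens} (h : η ∈ W) (h' : η ∈ W') (hle : W' ≤ W) (m : Γ(ratMod (k := k), W)) :
    ev h' (resM _ hle m) = ev h m := by
  have e : (Spec ((P).presheaf.stalk η)).presheaf.map (homOfLE (genMap.preimage_mono hle)).op ≫
      ((Spec ((P).presheaf.stalk η)).presheaf.map (homOfLE (preimage_genMap h').ge).op ≫
        (Scheme.ΓSpecIso ((P).presheaf.stalk η)).hom) =
      (Spec ((P).presheaf.stalk η)).presheaf.map (homOfLE (preimage_genMap h).ge).op ≫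
        (Scheme.ΓSpecIso ((P).presheaf.stalk η)).hom := by
    rw [← Category.assoc, ← Functor.map_comp]
    rfl
  exact congr($e m)

theorem ev_add {W : (P).Opens} (h : η ∈ W) (m m' : Γ(ratMod (k := k), W)) : ev h (m + m') = ev h m + ev h m' :=
  map_add (evR h) m m'

theorem ev_sum {σ : Type*} [Fintype σ] {W : (P).Opens} (h : η ∈ W) (m : σ → Γ(ratMod (k := k), W)) :
    ev h (∑ i, m i) = ∑ i, ev h (m i) :=
  map_sum (evR h) m _

variable {X : Scheme.{u}} {sX : X ⟶ Spec (CommRingCat.of k)} (f : CohB1.ProjSpace.{u} 1 k ⟶ X)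

open scoped Classical in
/-- The value of the derivation on an open. -/
def derVal (Δ : X.presheaf.stalk (f η) → (P).functionField) (U : X.Opens) (h : Γ(X, U)) :
    Γ(Spec ((P).presheaf.stalk η), genMap (k := k) ⁻¹ᵁ (f ⁻¹ᵁ U)) :=
  if hU : f η ∈ U then inE (f ⁻¹ᵁ U) (Δ (X.presheaf.germ U (f η) hU h)) else 0

theorem derVal_of_mem (Δ : X.presheaf.stalk (f η) → (P).functionField) {U : X.Opens} (hU : f η ∈ U) (h : Γ(X, U)) :
    derVal f Δ U h = inE (f ⁻¹ᵁ U) (Δ (X.presheaf.germ U (f η) hU h)) := dif_pos hU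

theorem derVal_of_notMem (Δ : X.presheaf.stalk (f η) → (P).functionField) {U : X.Opens} (hU : f η ∉ U) (h : Γ(X, U)) :
    derVal f Δ U h = 0 := dif_neg hU

theorem derVal_mul (Δ : X.presheaf.stalk (f η) → (P).functionField)
    (hmul : ∀ r r', Δ (r * r') = f.stalkMap η r * Δ r' + f.stalkMap η r' * Δ r) (U : X.Opens) (a b : Γ(X, U)) :
    derVal f Δ U (a * b) = (genMap (k := k)).app (f ⁻¹ᵁ U) (f.app U a) * derVal f Δ U b +
      (genMap (k := k)).app (f ⁻¹ᵁ U) (f.app U b) * derVal f Δ U a := by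
  by_cases hU : f η ∈ U
  · have hη : η ∈ f ⁻¹ᵁ U := hU
    rw [derVal_of_mem f Δ hU, derVal_of_mem f Δ hU, derVal_of_mem f Δ hU, app_genMap hη, app_genMap hη,
      map_mul (X.presheaf.germ U (f η) hU).hom, hmul, map_add (inE _), map_mul (inE _), map_mul (inE _),
      f.germ_stalkMap_apply U η hU, f.germ_stalkMap_apply U η hU]
  · simp [derVal_of_notMem f Δ hU]

theorem derVal_res (Δ : X.presheaf.stalk (f η) → (P).functionField) {U V : X.Opens} (hle : V ≤ U) (s : Γ(X, U)) :
    derVal f Δ V (X.presheaf.map (homOfLE hle).op s) =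
      (Spec ((P).presheaf.stalk η)).presheaf.map (homOfLE ((genMap (k := k)).preimage_mono (f.preimage_mono hle))).op
        (derVal f Δ U s) := by
  by_cases hV : f η ∈ V
  · rw [derVal_of_mem f Δ hV, derVal_of_mem f Δ (hle hV), inE_res (f.preimage_mono hle),
      TopCat.Presheaf.germ_res_apply]
  · have hbot := preimage_genMap_bot (k := k) (W := f ⁻¹ᵁ V) hV
    refine AmpleLib.sec_ext (Coh.structureModule (Spec ((P).presheaf.stalk η))) _ _ fun z hz => absurd hz ?_
    rw [hbot]
    exact fun h => h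

theorem derVal_const (hf : f ≫ sX = CohB1.ProjSpace.toSpec 1 k) (Δ : X.presheaf.stalk (f η) → (P).functionField)
    (hconst : ∀ r (a : k), f.stalkMap η r = iota 0 (Polynomial.C a) → Δ r = 0)
    (V : (Spec (CommRingCat.of k)).Opens) (c : Γ(Spec (CommRingCat.of k), V)) :
    derVal f Δ (sX ⁻¹ᵁ V) (sX.app V c) = 0 := by
  by_cases hU : f η ∈ sX ⁻¹ᵁ V
  · haveI : Subsingleton ↥(Spec (CommRingCat.of k)) := inferInstanceAs (Subsingleton (PrimeSpectrum k))
    obtain rfl : V = ⊤ := top_le_iff.1 fun z _ => by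
      have h : sX (f η) ∈ V := hU
      have e : z = sX (f η) := Subsingleton.elim (α := ↥(Spec (CommRingCat.of k))) _ _
      exact e ▸ h
    have hc : Δ (X.presheaf.germ _ (f η) hU (sX.app ⊤ c)) = 0 := by
      refine hconst _ ((Scheme.ΓSpecIso (CommRingCat.of k)).hom c) ?_
      rw [iota_C]
      refine (f.germ_stalkMap_apply _ η hU _).trans ?_
      show (P).presheaf.germ ⊤ η trivial ((f ≫ sX).appTop c) = _
      refine congrArg ((P).presheaf.germ ⊤ η trivial) ?_
      rw [show ProjUP.toGlobal (CohB1.ProjSpace.toSpec 1 k) ((Scheme.ΓSpecIso (CommRingCat.of k)).hom c) =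
        (CohB1.ProjSpace.toSpec 1 k).appTop ((Scheme.ΓSpecIso (CommRingCat.of k)).inv
          ((Scheme.ΓSpecIso (CommRingCat.of k)).hom c)) from rfl, Iso.hom_inv_id_apply, ← hf]
    rw [derVal_of_mem f Δ hU, hc, map_zero]
  · exact derVal_of_notMem f Δ hU _

/-- The derivation attached to a derivation of the stalk at the image of the generic point. -/
def derAt (hf : f ≫ sX = CohB1.ProjSpace.toSpec 1 k) (Δ : X.presheaf.stalk (f η) → (P).functionField)
    (hadd : ∀ r r', Δ (r + r') = Δ r + Δ r')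
    (hmul : ∀ r r', Δ (r * r') = f.stalkMap η r * Δ r' + f.stalkMap η r' * Δ r)
    (hconst : ∀ r (a : k), f.stalkMap η r = iota 0 (Polynomial.C a) → Δ r = 0) :
    OmegaSh.Der sX ((Scheme.Modules.pushforward f).obj (ratMod (k := k))) where
  d := fun {U} => AddMonoidHom.mk' (derVal f Δ U.unop) fun a b => by
    by_cases hU : f η ∈ U.unop
    · rw [derVal_of_mem f Δ hU, derVal_of_mem f Δ hU, derVal_of_mem f Δ hU,
        map_add (X.presheaf.germ U.unop (f η) hU).hom, hadd, map_add (inE _)]
    · rw [derVal_of_notMem f Δ hU, derVal_of_notMem f Δ hU, derVal_of_notMem f Δ hU]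
      exact (add_zero _).symm
  d_mul := fun {U} a b => derVal_mul f Δ hmul U.unop a b
  d_map := fun {U V} i s => derVal_res f Δ i.unop.le s
  d_app := fun {V} c => derVal_const f hf Δ hconst V.unop c

theorem derAt_app (hf : f ≫ sX = CohB1.ProjSpace.toSpec 1 k) (Δ : X.presheaf.stalk (f η) → (P).functionField)
    (hadd) (hmul) (hconst) (U : X.Opens) (h : Γ(X, U)) :
    (show Γ(Spec ((P).presheaf.stalk η), genMap (k := k) ⁻¹ᵁ (f ⁻¹ᵁ U)) from
      (derAt f hf Δ hadd hmul hconst).app U h) = derVal f Δ U h := rfl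

end Groth.Agent.RCFree24
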