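import Groth.Agent.RCFree24.Nonzero
import Groth.Agent.Canon15.TopDiff

/-!
# Frames of bundles whose negative twist has no sections
-/

set_option autoImplicit false
set_option linter.style.haveILetI false
set_option linter.unusedSectionVars false
set_option backward.isDefEq.respectTransparency false
set_option backward.isDefEq.respectTransparency.types false
set_option maxHeartbeats 2000000

universe u

open CategoryTheory CategoryTheory.Limits AlgebraicGeometry Opposite TopologicalSpace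
open Groth.Agent.Coherent Groth.Agent.PicLib Groth.Agent.AmpleLib Groth.Agent.P1SC24 Groth.Agent.EmbLib24
open Groth.Agent.RCVan24

noncomputable section

namespace Groth.Agent.RCFree24

variable {k : Type u} [Field k]

local notation "T(" d ")" => Twist.twistProjSpace 1 k d

theorem isGen_iso {X : Scheme.{u}} {L L' : X.Modules} (e : L ≅ L') {U : X.Opens} {s : Γ(L, U)} (hs : IsGen L U s) :
    IsGen L' U (e.hom.app U s) := isGen_app_iso e hs

theorem subsingleton_of_iso {X : Scheme.{u}} {L L' : X.Modules} (e : L ≅ L') {U : X.Opens}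
    (h : Subsingleton Γ(L, U)) : Subsingleton Γ(L', U) :=
  subsingleton_of_forall_eq 0 fun z => by
    have h1 : e.hom.app U (e.inv.app U z) = z := congr($(e.inv_hom_id).app U z)
    rw [← h1, Subsingleton.elim (e.inv.app U z) 0, map_zero]

theorem exists_line {d : ℤ} (hd : d ≤ 0) :
    ∃ (g : ∀ c, Γ(T(d), chart 1 k c)) (a : ℕ), (∀ c, IsGen T(d) (chart 1 k c) (g c)) ∧
      resM T(d) (overlap_le k 1) (g 1) = sv k ^ a • resM T(d) (overlap_le k 0) (g 0) := by
  rcases lt_or_eq_of_le hd with hd | rfl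
  · have h0 : Subsingleton Γ(T(d), ⊤) := by
      letI : (CohB1.ProjSpace 1 k).Over (Spec (CommRingCat.of k)) := ⟨CohB1.ProjSpace.toSpec 1 k⟩
      haveI := Coherent.subsingleton_HH_twist (n := 1) (R := k) (d := d) 0 (by omega) (by omega)
      exact (CurveRR24.hhZero k T(d)).symm.toEquiv.subsingleton
    obtain ⟨g, a, hg, -, h⟩ := exists_frame_line (L := T(d))
      (fun c => (show Γ(T(d), chart 1 k c) from SerreDual.chartGen d c))
      (fun c => SerreDual.isGen_chartGen d c) h0
    exact ⟨g, a, hg, h⟩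
  · obtain ⟨e⟩ := SplitP1.nonempty_twist_zero k
    refine ⟨fun c => e.inv.app _ (oneSec (chart 1 k c)), 0, fun c => isGen_app_iso e.symm (isGen_oneSec _), ?_⟩
    rw [← app_resM, ← app_resM, resM_oneSec, resM_oneSec, pow_zero, one_smul]

attribute [local instance] hasFiniteBiproducts

/-- A bundle whose negative twist has no sections has a frame. -/
theorem exists_frame_free {n : ℕ} {E : (CohB1.ProjSpace 1 k).Modules} (hE : FlatMod.IsFinLocFreeOfRank n E)
    (h0 : Subsingleton Γ(CohB1.tensorMod E T(-1), ⊤)) : ∃ φ : Frame E, Fintype.card φ.I = n := by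
  classical
  obtain ⟨d, -, ⟨e⟩⟩ := (SplitP1.existsUnique_splitting n E hE).exists
  let L := fun i : Fin n => Twist.twistProjSpace 1 k (d i)
  let p : ∀ i, E ⟶ L i := fun i => e.hom ≫ Sigma.desc fun j => if h : j = i then eqToHom (congrArg L h) else 0
  let ι : ∀ i, L i ⟶ E := fun i => Sigma.ι L i ≫ e.inv
  have hιp : ∀ i j, ι i ≫ p j = (if h : i = j then eqToHom (congrArg L h) else 0) := fun i j => by
    show (Sigma.ι L i ≫ e.inv) ≫ e.hom ≫ _ = _
    rw [Category.assoc, e.inv_hom_id_assoc, Sigma.ι_desc]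
  have hd : ∀ i, ι i ≫ p i = 𝟙 _ := fun i => by rw [hιp, dif_pos rfl, eqToHom_refl]
  have ho : ∀ i j, i ≠ j → ι i ≫ p j = 0 := fun i j hij => by rw [hιp, dif_neg hij]
  have htot : ∑ i, p i ≫ ι i = 𝟙 E := by
    rw [← cancel_epi e.inv, Preadditive.comp_sum, Category.comp_id]
    refine Sigma.hom_ext _ _ fun j => ?_
    have h1 : ∀ i, Sigma.ι L j ≫ e.inv ≫ p i ≫ ι i = (ι j ≫ p i) ≫ ι i := fun i => by
      simp only [ι, Category.assoc]
    show Sigma.ι L j ≫ (∑ i, e.inv ≫ p i ≫ ι i) = Sigma.ι L j ≫ e.inv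
    rw [Preadditive.comp_sum, Finset.sum_eq_single j]
    · rw [h1, hd, Category.id_comp]
    · intro i _ hij; rw [h1, ho j i (Ne.symm hij), zero_comp]
    · simp
  have hle : ∀ i, d i ≤ 0 := fun i => by
    letI : (CohB1.ProjSpace 1 k).Over (Spec (CommRingCat.of k)) := ⟨CohB1.ProjSpace.toSpec 1 k⟩
    let I := SerreDual.tensorRightHom k (L i) E T(-1) (ι i)
    let Q := SerreDual.tensorRightHom k E (L i) T(-1) (p i)
    have hIQ : I ≫ Q = 𝟙 _ := by
      rw [← SplitP1.tensorRightHom_comp, hd i, SplitP1.tensorRightHom_id]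
    have h1 : Subsingleton Γ(CohB1.tensorMod (L i) T(-1), ⊤) := subsingleton_of_forall_eq 0 fun z => by
      have h2 : Q.app ⊤ (I.app ⊤ z) = z := congr($(hIQ).app ⊤ z)
      rw [← h2, show I.app ⊤ z = 0 from Subsingleton.elim _ _, map_zero]
    obtain ⟨e'⟩ := SplitP1.nonempty_twist_add k (a := d i) (b := -1) (c := d i - 1) (by omega)
    have h2 : Subsingleton Γ(T(d i - 1), ⊤) := subsingleton_of_iso e' h1
    haveI : Subsingleton (GA (baseHom k (CohB1.ProjSpace 1 k)) T(d i - 1)) := h2
    haveI : Subsingleton (Coh.HH (CohB1.ProjSpace 1 k) T(d i - 1) 0) :=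
      (CurveRR24.hhZero k T(d i - 1)).toEquiv.subsingleton
    have h3 := SplitP1.h0_twist k (d i - 1)
    rw [Module.finrank_zero_of_subsingleton] at h3
    omega
  choose g a hg hga using fun i => exists_line (k := k) (hle i)
  exact ⟨{
      I := ULift.{u} (Fin n)
      wt := fun i => a i.down
      b := fun c i => (ι i.down).app _ (g i.down c)
      basis := fun c => isBasisOn_of_biproduct ι p hd ho htot (fun i => g i c) (fun i => hg i c)
      trans := fun i => by
        rw [← app_resM, hga i.down, Scheme.Modules.Hom.app_smul, app_resM] }, by simp⟩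

theorem sum_pos_top {σ : Type u} [Fintype σ] [LinearOrder σ] (w : σ → ℕ) {n : ℕ} (hn : Fintype.card σ = n)
    (s : Set.powersetCard σ n) {i₀ : σ} (h : 0 < w i₀) :
    0 < ∑ j, w (Set.powersetCard.ofFinEmbEquiv.symm s j) := by
  have hbij : Function.Bijective (Set.powersetCard.ofFinEmbEquiv.symm s) :=
    (Fintype.bijective_iff_injective_and_card _).2
      ⟨(Set.powersetCard.ofFinEmbEquiv.symm s).injective, by rw [Fintype.card_fin, hn]⟩
  obtain ⟨j, hj⟩ := hbij.2 i₀
  refine lt_of_lt_of_le ?_ (Finset.single_le_sum (fun _ _ => Nat.zero_le _) (Finset.mem_univ j))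
  rw [hj]
  exact h

/-- The top exterior power of a frame with a positive weight. -/
theorem exists_topPow {F L : (CohB1.ProjSpace 1 k).Modules} {n : ℕ} (hL : ExtPow.IsExtPow n F L)
    (φ : Frame F) (hn : Fintype.card φ.I = n) {i₀ : φ.I} (hi₀ : 0 < φ.wt i₀) : ∃ χ : Frame L, χ.Pos := by
  classical
  obtain ⟨E, hE⟩ := hL
  letI : LinearOrder φ.I := LinearOrder.lift' (Fintype.equivFin φ.I) (Fintype.equivFin φ.I).injective
  let idx : Set.powersetCard φ.I n → Fin n → φ.I := fun s => Set.powersetCard.ofFinEmbEquiv.symm s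
  let b : ∀ c : Fin (1 + 1), Set.powersetCard φ.I n → Γ(L, chart 1 k c) := fun c s =>
    (E ⟨chart 1 k c, isAffineOpen_chart c⟩).symm (exteriorPower.ιMulti _ n fun j =>
      (show F.val.obj (op (chart 1 k c)) from φ.b c (idx s j)))
  have hres : ∀ (c : Fin (1 + 1)) (s : Set.powersetCard φ.I n) (A : (CohB1.ProjSpace 1 k).Opens)
      (hA : A ≤ chart 1 k c) (hAa : IsAffineOpen A),
      resM L hA (b c s) = (E ⟨A, hAa⟩).symm (exteriorPower.ιMulti _ n fun j =>
        (show F.val.obj (op A) from resM F hA (φ.b c (idx s j)))) := fun c s A hA hAa =>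
    hE ⟨chart 1 k c, isAffineOpen_chart c⟩ ⟨A, hAa⟩ hA _
  haveI : Finite (Set.powersetCard φ.I n) := Subtype.finite
  letI : Fintype (Set.powersetCard φ.I n) := Fintype.ofFinite _
  refine ⟨{
    I := Set.powersetCard φ.I n
    wt := fun s => ∑ j, φ.wt (idx s j)
    b := b
    basis := fun c => GrassLib.PBundle.isBasisOn_of_affine _ fun A hA hAa => ?_
    trans := fun s => ?_ }, fun s => ?_⟩
  · refine bijective_of_basis (((basisOfOn (φ.basis c) hA).exteriorPower n).map (E ⟨A, hAa⟩).symm) fun s => ?_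
    rw [Module.Basis.map_apply, exteriorPower.basis_apply, hres c s A hA hAa, exteriorPower.ιMulti_family]
    refine congrArg (fun v => (E ⟨A, hAa⟩).symm (exteriorPower.ιMulti _ n v)) (funext fun j => ?_)
    exact basisOfOn_apply (φ.basis c) hA _
  · rw [hres 1 s _ (overlap_le k 1) isAffineOpen_overlap, hres 0 s _ (overlap_le k 0) isAffineOpen_overlap]
    rw [show (fun j => (show F.val.obj (op (overlap k)) from resM F (overlap_le k 1) (φ.b 1 (idx s j)))) =
      fun j => (sv k ^ φ.wt (idx s j)) • (show F.val.obj (op (overlap k)) from resM F (overlap_le k 0) (φ.b 0 (idx s j)))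
      from funext fun j => φ.trans (idx s j)]
    erw [AlternatingMap.map_smul_univ, map_smul]
    rw [Finset.prod_pow_eq_pow_sum]
    skip
  · exact sum_pos_top φ.wt hn s hi₀

theorem subsingleton_plurigenus [IsAlgClosed k] (X : Scheme.{u}) [X.Over (Spec (CommRingCat.of k))]
    [IsIntegral X] [Smooth (X ↘ Spec (CommRingCat.of k))] [IsSeparated (X ↘ Spec (CommRingCat.of k))]
    (n : ℕ) (hn : topologicalKrullDim X = n)
    (f : CohB1.ProjSpace 1 k ⟶ X) (hf : f ≫ (X ↘ Spec (CommRingCat.of k)) = CohB1.ProjSpace.toSpec 1 k)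
    (hnc : ¬ ∃ x : X, Set.range f.base ⊆ {x})
    (hfree : Subsingleton (Coh.HH (CohB1.ProjSpace 1 k)
      (CohB1.tensorMod ((Scheme.Modules.pullback f).obj (Omega.sheaf (X ↘ Spec (CommRingCat.of k)))) (Twist.twistProjSpace 1 k (-1))) 0))
    (ω : X.Modules) (hω : ExtPow.IsExtPow n (Omega.sheaf (X ↘ Spec (CommRingCat.of k))) ω) (m : ℕ) (hm : 1 ≤ m) :
    Subsingleton (Coh.HH X (CohB1.tensorPow ω m) 0) := by
  let sX := X ↘ Spec (CommRingCat.of k)
  haveI := GenSmoothLib.smoothOfRelativeDimension_toField sX hn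
  have hr : FlatMod.IsFinLocFreeOfRank n (Omega.sheaf sX) := Canon15.isFinLocFreeOfRank_omega sX n
  have hΩ : FlatMod.IsFinLocFree (Omega.sheaf sX) :=
    OmegaLib.isFinLocFree_of_isFormallySmoothHom (OmegaLib.isUniversal_dOmega sX) (Omega15.isFormallySmoothHom_of_smooth sX)
  have hr' := GrassLib.isFinLocFreeOfRank_pullback f hr
  letI : (CohB1.ProjSpace 1 k).Over (Spec (CommRingCat.of k)) := ⟨CohB1.ProjSpace.toSpec 1 k⟩
  haveI := hfree
  have h0 : Subsingleton Γ(CohB1.tensorMod ((Scheme.Modules.pullback f).obj (Omega.sheaf sX)) T(-1), ⊤) :=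
    (CurveRR24.hhZero k _).symm.toEquiv.subsingleton
  obtain ⟨φΩ, hcard⟩ := exists_frame_free hr' h0
  obtain ⟨i₀, hi₀⟩ := exists_pos_wt f hf hnc φΩ
  have hωf : FlatMod.IsFinLocFree ω := WedgeDual5.isFinLocFree_of_isExtPow hΩ hω
  obtain ⟨φE, hφE⟩ := exists_topPow (ExtPowEx28.isExtPow_pullback_vb f hΩ hω) φΩ hcard hi₀
  obtain ⟨χ, hχ⟩ := exists_tensorPow (FlatMorAdm.isFinLocFree_pullback f hωf) φE hφE m hm
  obtain ⟨e⟩ := Clifford24.nonempty_pullback_tensorPow f ω m
  haveI := subsingleton_of_frame f hf φΩ (isFinLocFree_tensorPow hωf m) (χ.congr e.symm) hχ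
  haveI : Subsingleton (GA (baseHom k X) (CohB1.tensorPow ω m)) :=
    inferInstanceAs (Subsingleton Γ(CohB1.tensorPow ω m, ⊤))
  exact (CurveRR24.hhZero k (CohB1.tensorPow ω m)).toEquiv.subsingleton

end Groth.Agent.RCFree24
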