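import Groth.Agent.RCFree24.Curve

/-!
# The differentials along a nonconstant rational curve are not trivial
-/

set_option autoImplicit false
set_option linter.style.haveILetI false
set_option linter.unusedSectionVars false
set_option backward.isDefEq.respectTransparency false
set_option backward.isDefEq.respectTransparency.types false
set_option maxHeartbeats 2000000

universe u

open CategoryTheory CategoryTheory.Limits AlgebraicGeometry Opposite TopologicalSpace
open Groth.Agent.Coherent Groth.Agent.PicLib Groth.Agent.AmpleLib Groth.Agent.P1SC24 Groth.Agent.EmbLib24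
open Groth.Agent.RCVan24

noncomputable section

namespace Groth.Agent.RCFree24

variable {k : Type u} [Field k]

local notation "P" => CohB1.ProjSpace 1 k

local notation "η" => genericPoint (CohB1.ProjSpace 1 k)

theorem exists_point (c : Fin (1 + 1)) (Q : Ideal (Polynomial k)) [Q.IsPrime] :
    ∃ (x : CohB1.ProjSpace.{u} 1 k), x ∈ chart 1 k c ∧ ∀ (W : (CohB1.ProjSpace.{u} 1 k).Opens) (hxW : x ∈ W)
      (z : Γ(CohB1.ProjSpace.{u} 1 k, W)),
      Reg (iota c) Q ((P).presheaf.germ W η (mem_of_nonempty k ⟨x, hxW⟩) z) := by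
  let hU := isAffineOpen_chart (k := k) c
  let e := RingEquiv.ofBijective (chartRing k c) (bijective_chartRing k c)
  let y : PrimeSpectrum Γ(P, chart 1 k c) := PrimeSpectrum.comap e.symm.toRingHom ⟨Q, ‹_›⟩
  have hy : hU.fromSpec y ∈ chart 1 k c := hU.range_fromSpec.subset (Set.mem_range_self y)
  refine ⟨hU.fromSpec y, hy, fun W hxW z => ?_⟩
  letI := TopCat.Presheaf.algebra_section_stalk (P).presheaf (⟨hU.fromSpec y, hy⟩ : chart 1 k c)
  haveI : IsLocalization.AtPrime ((P).presheaf.stalk (hU.fromSpec y)) (hU.primeIdealOf ⟨hU.fromSpec y, hy⟩).asIdeal :=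
    hU.isLocalization_stalk ⟨hU.fromSpec y, hy⟩
  have hyy : hU.primeIdealOf ⟨hU.fromSpec y, hy⟩ = y :=
    hU.fromSpec.isOpenEmbedding.injective (hU.fromSpec_primeIdealOf _)
  obtain ⟨⟨a, b⟩, hab⟩ := IsLocalization.surj (hU.primeIdealOf ⟨hU.fromSpec y, hy⟩).asIdeal.primeCompl
    ((P).presheaf.germ W (hU.fromSpec y) hxW z)
  obtain ⟨a', rfl⟩ := (bijective_chartRing k c).2 a
  obtain ⟨b', hb'⟩ := (bijective_chartRing k c).2 b.1
  have hbQ : b' ∉ Q := fun h => b.2 (by
    rw [← hb', hyy]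
    show e.symm (chartRing k c b') ∈ Q
    rw [show chartRing k c b' = e b' from rfl, e.symm_apply_apply]
    exact h)
  refine ⟨a', b', hbQ, ?_⟩
  rw [eq_div_iff ((isRat_iota c).ne_zero (ne_of_mem_of_not_mem Q.zero_mem hbQ).symm)]
  have hsp : η ⤳ hU.fromSpec y := (genericPoint_spec (P)).specializes trivial
  have h := congrArg ((P).presheaf.stalkSpecializes hsp) hab
  rw [map_mul] at h
  change _ * (P).presheaf.stalkSpecializes hsp ((P).presheaf.germ _ _ hy b.1) =
    (P).presheaf.stalkSpecializes hsp ((P).presheaf.germ _ _ hy _) at h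
  rw [← hb', TopCat.Presheaf.germ_stalkSpecializes_apply, TopCat.Presheaf.germ_stalkSpecializes_apply,
    TopCat.Presheaf.germ_stalkSpecializes_apply] at h
  exact h

variable {X : Scheme.{u}} {sX : X ⟶ Spec (CommRingCat.of k)} (f : CohB1.ProjSpace.{u} 1 k ⟶ X)

theorem exists_ne_const [LocallyOfFiniteType sX] (hf : f ≫ sX = CohB1.ProjSpace.toSpec 1 k)
    (hnc : ¬ ∃ x : X, Set.range f.base ⊆ {x}) :
    ∃ r : X.presheaf.stalk (f η), ∀ c, f.stalkMap η r ≠ iota 0 (Polynomial.C c) := by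
  by_contra hcon
  push Not at hcon
  refine hnc ⟨f η, ?_⟩
  obtain ⟨U, hU, hxU, -⟩ := Opens.isBasis_iff_nbhd.1 X.isBasis_affineOpens (Opens.mem_top (f η))
  let χ : Γ(X, U) →+* (P).functionField := (f.stalkMap η).hom.comp (X.presheaf.germ U (f η) hxU).hom
  have hg : ∀ c, χ (gl sX U c) = iota 0 (Polynomial.C c) := fun c => by
    rw [iota_C]
    show f.stalkMap η (X.presheaf.germ U (f η) hxU (gl sX U c)) = _
    rw [germ_gl]
    refine (f.germ_stalkMap_apply ⊤ η trivial _).trans ?_
    show (P).presheaf.germ ⊤ η trivial ((f ≫ sX).appTop ((Scheme.ΓSpecIso (CommRingCat.of k)).inv c)) = _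
    rw [hf]
    rfl
  have hker : ∀ h, χ h = 0 → h ∈ (hU.primeIdealOf ⟨f η, hxU⟩).asIdeal := fun h h0 => by
    by_contra hn
    letI := TopCat.Presheaf.algebra_section_stalk X.presheaf (⟨f η, hxU⟩ : U)
    haveI : IsLocalization.AtPrime (X.presheaf.stalk (f η)) (hU.primeIdealOf ⟨f η, hxU⟩).asIdeal :=
      hU.isLocalization_stalk ⟨f η, hxU⟩
    have hu : IsUnit (X.presheaf.germ U (f η) hxU h) :=
      IsLocalization.map_units (X.presheaf.stalk (f η))
        (⟨h, hn⟩ : (hU.primeIdealOf ⟨f η, hxU⟩).asIdeal.primeCompl)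
    exact (hu.map (f.stalkMap η).hom).ne_zero h0
  have hmax : (hU.primeIdealOf ⟨f η, hxU⟩).asIdeal.IsMaximal := by
    refine Ideal.isMaximal_iff.2 ⟨fun h => Ideal.IsPrime.ne_top' ((Ideal.eq_top_iff_one _).2 h), fun J h hJ hh hhJ => ?_⟩
    obtain ⟨c, hc⟩ := hcon (X.presheaf.germ U (f η) hxU h)
    have h1 : h - gl sX U c ∈ (hU.primeIdealOf ⟨f η, hxU⟩).asIdeal := hker _ (by
      rw [map_sub, hg, sub_eq_zero]; exact hc)
    have hc0 : c ≠ 0 := fun h0 => hh (by rw [h0, map_zero, sub_zero] at h1; exact h1)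
    have h2 : gl sX U c ∈ J := by
      rw [show gl sX U c = h - (h - gl sX U c) by abel]
      exact J.sub_mem hhJ (hJ h1)
    have := J.mul_mem_left (gl sX U c⁻¹) h2
    rwa [← map_mul, inv_mul_cancel₀ hc0, map_one] at this
  haveI : JacobsonSpace ↥X := LocallyOfFiniteType.jacobsonSpace sX
  have hsing : (U : Set X) ∩ closure {f η} = {f η} := by
    refine Set.Subset.antisymm ?_ (fun z hz => by obtain rfl : z = f η := hz; exact ⟨hxU, subset_closure rfl⟩)
    rintro z ⟨hzU, hz⟩
    have hs : hU.fromSpec (hU.primeIdealOf ⟨f η, hxU⟩) ⤳ hU.fromSpec (hU.primeIdealOf ⟨z, hzU⟩) := by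
      rw [hU.fromSpec_primeIdealOf, hU.fromSpec_primeIdealOf]
      exact specializes_iff_mem_closure.2 hz
    have hle := (PrimeSpectrum.le_iff_specializes _ _).2
      (hU.fromSpec.isOpenEmbedding.isInducing.specializes_iff.1 hs)
    have he : hU.primeIdealOf ⟨f η, hxU⟩ = hU.primeIdealOf ⟨z, hzU⟩ :=
      PrimeSpectrum.ext (hmax.eq_of_le (hU.primeIdealOf ⟨z, hzU⟩).isPrime.ne_top hle)
    show z = f η
    exact ((hU.fromSpec_primeIdealOf ⟨z, hzU⟩).symm.trans (congrArg _ he.symm)).trans (hU.fromSpec_primeIdealOf _)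
  have hlc : IsLocallyClosed ({f η} : Set X) :=
    ⟨U, closure {f η}, U.2, isClosed_closure, hsing.symm⟩
  have hcl := isClosed_singleton_of_isLocallyClosed_singleton hlc
  rintro _ ⟨y, rfl⟩
  have h := (((genericPoint_spec (P)).specializes (Set.mem_univ y)).map f.continuous).mem_closure
  rwa [hcl.closure_eq] at h

theorem exists_pos_wt [IsAlgClosed k] [Smooth sX] [QuasiSeparated sX]
    (hf : f ≫ sX = CohB1.ProjSpace.toSpec 1 k) (hnc : ¬ ∃ x : X, Set.range f.base ⊆ {x})
    (φ : Frame ((Scheme.Modules.pullback f).obj (Omega.sheaf sX))) : ∃ i, 0 < φ.wt i := by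
  classical
  by_contra hall
  push Not at hall
  have hwt : ∀ i, φ.wt i = 0 := fun i => Nat.le_zero.1 (hall i)
  obtain ⟨q, ψ, hq, hψ, hadd, hmul, hconst, r₀, hr₀⟩ :=
    (isRat_iota (k := k) 0).exists_derivation (f.stalkMap η).hom (exists_ne_const f hf hnc)
  let Δ : X.presheaf.stalk (f η) → (P).functionField := fun r => (isRat_iota 0).d (ψ r) ^ q
  let D := derAt f hf Δ hadd hmul hconst
  obtain ⟨α, hα, -⟩ := OmegaLib.isUniversal_dOmega sX _ D
  let L := ((Scheme.Modules.pullbackPushforwardAdjunction f).homEquiv _ _).symm α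
  have hLd : ∀ (U : X.Opens) (hU : f η ∈ U) (h : Γ(X, U)),
      ev (W := f ⁻¹ᵁ U) hU (L.app _ (pullSec f ((OmegaSh.dOmega sX).app U h))) =
        Δ (X.presheaf.germ U (f η) hU h) := fun U hU h => by
    rw [homEquiv_symm_app_pullSec]
    have e : α.app U ((OmegaSh.dOmega sX).app U h) = D.app U h := PresheafOfModules.Derivation.congr_d hα h
    rw [e]
    exact (congrArg (evR (W := f ⁻¹ᵁ U) hU) ((derAt_app f hf Δ hadd hmul hconst U h).trans
      (derVal_of_mem f Δ hU h))).trans (evR_inE _ _)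
  let val : ∀ {W : (P).Opens}, η ∈ W → Γ((Scheme.Modules.pullback f).obj (Omega.sheaf sX), W) →
      (P).functionField := fun h z => ev h (L.app _ z)
  have val_smul : ∀ {W : (P).Opens} (h : η ∈ W) (a : Γ(P, W)) z,
      val h (a • z) = (P).presheaf.germ W η h a * val h z := fun h a z => by
    show ev h (L.app _ (a • z)) = _
    rw [Scheme.Modules.Hom.app_smul, ev_smul]
  have val_res : ∀ {W W' : (P).Opens} (h : η ∈ W) (h' : η ∈ W') (hle : W' ≤ W) z,
      val h' (resM _ hle z) = val h z := fun h h' hle z => by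
    show ev h' (L.app _ _) = _
    rw [app_resM, ev_res h h' hle]
  have val_sum : ∀ {σ : Type u} [Fintype σ] {W : (P).Opens} (h : η ∈ W)
      (z : σ → Γ((Scheme.Modules.pullback f).obj (Omega.sheaf sX), W)), val h (∑ i, z i) = ∑ i, val h (z i) :=
    fun h z => by
      show ev h (L.app _ _) = _
      rw [map_sum, ev_sum]
  let s : (P).functionField := iota 1 Polynomial.X
  let σ : Fin (1 + 1) → (P).functionField := fun c => if c = 0 then 1 else (-s ^ 2) ^ q
  have hσ : ∀ c, σ c ≠ 0 := fun c => by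
    simp only [σ]
    split_ifs
    · exact one_ne_zero
    · exact pow_ne_zero _ (neg_ne_zero.2 (pow_ne_zero _ ((isRat_iota 1).ne_zero Polynomial.X_ne_zero)))
  have hΔ : ∀ (c : Fin (1 + 1)) r, Δ r = σ c * (isRat_iota c).d (ψ r) ^ q := by
    intro c r
    fin_cases c
    · simp [σ, Δ]
    · show _ = σ 1 * (isRat_iota 1).d (ψ r) ^ q
      rw [show σ 1 = (-s ^ 2) ^ q from if_neg (by decide), ← mul_pow]
      refine congrArg (· ^ q) ((IsRat.d_change (isRat_iota 0) (isRat_iota 1) (fun a => ?_) iota_X (ψ r)).trans ?_)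
      · rw [iota_C, iota_C]
      · ring
  have hreg : ∀ (c : Fin (1 + 1)) (i : φ.I), ∀ Q : Ideal (Polynomial k), Q.IsMaximal →
      Reg (iota c) Q (val (mem_chart c) (φ.b c i) / σ c) := by
    intro c i Q hQ
    haveI := hQ.isPrime
    obtain ⟨x, hxc, hx⟩ := exists_point c Q
    have hΩ : FlatMod.IsFinLocFree (Omega.sheaf sX) :=
      OmegaLib.isFinLocFree_of_isFormallySmoothHom (OmegaLib.isUniversal_dOmega sX) (Omega15.isFormallySmoothHom_of_smooth sX)
    obtain ⟨U₀, m, b, hxU₀, hb⟩ := exists_isBasisOn hΩ (f x)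
    obtain ⟨U, hU, hxU, hle⟩ := Opens.isBasis_iff_nbhd.1 X.isBasis_affineOpens hxU₀
    have hηU : f η ∈ U := (((genericPoint_spec (P)).specializes (Set.mem_univ x)).map f.continuous).mem_open U.2 hxU
    have hspan : ∀ z : Γ(Omega.sheaf sX, U),
        Reg (iota c) Q (val (W := f ⁻¹ᵁ U) hηU (pullSec f z) / σ c) := by
      intro z
      have hz : z ∈ Submodule.span Γ(X, U) (Set.range ((OmegaSh.dOmega sX).app U)) := by
        rw [OmegaLib.span_range_app (OmegaLib.isUniversal_dOmega sX) (le_top : U ≤ sX ⁻¹ᵁ ⊤) (isAffineOpen_top _) hU]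
        trivial
      induction hz using Submodule.span_induction with
      | mem z hz =>
        obtain ⟨h, rfl⟩ := hz
        show Reg (iota c) Q (ev (W := f ⁻¹ᵁ U) hηU (L.app _ (pullSec f ((OmegaSh.dOmega sX).app U h))) / σ c)
        rw [hLd U hηU h, hΔ c, mul_div_cancel_left₀ _ (hσ c)]
        refine (isRat_iota c).reg_pow ((isRat_iota c).reg_d ((isRat_iota c).reg_root hq ?_)) q
        rw [hψ]
        change Reg (iota c) Q (f.stalkMap η (X.presheaf.germ U (f η) hηU h))
        rw [f.germ_stalkMap_apply U η hηU]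
        exact hx (f ⁻¹ᵁ U) hxU _
      | zero =>
        rw [show pullSec f (0 : Γ(Omega.sheaf sX, U)) = 0 from map_zero _]
        show Reg (iota c) Q (ev _ (L.app _ 0) / σ c)
        rw [map_zero]
        show Reg (iota c) Q (evR _ 0 / σ c)
        rw [map_zero, zero_div]
        have h00 : Reg (iota c) Q (iota c 0) := (isRat_iota c).reg_ι 0
        rwa [map_zero] at h00
      | add y z _ _ hy hz =>
        have e : val (W := f ⁻¹ᵁ U) hηU (pullSec f (y + z)) = val (W := f ⁻¹ᵁ U) hηU (pullSec f y) + val (W := f ⁻¹ᵁ U) hηU (pullSec f z) := by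
          show ev _ (L.app _ _) = _
          rw [show pullSec f (y + z) = pullSec f y + pullSec f z from map_add _ _ _, map_add, ev_add]
        rw [e, add_div]
        simpa [Fin.sum_univ_two] using (isRat_iota c).reg_sum Finset.univ
          ![val (W := f ⁻¹ᵁ U) hηU (pullSec f y) / σ c, val (W := f ⁻¹ᵁ U) hηU (pullSec f z) / σ c]
          (by intro j _; fin_cases j <;> assumption)
      | smul a z _ hz =>
        rw [pullSec_smul, val_smul (W := f ⁻¹ᵁ U) hηU, mul_div_assoc]
        exact (isRat_iota c).reg_mul (hx (f ⁻¹ᵁ U) hxU _) hz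
    let W := f ⁻¹ᵁ U ⊓ chart 1 k c
    have hηW : η ∈ W := ⟨hηU, mem_chart c⟩
    have hW₀ : W ≤ f ⁻¹ᵁ U₀ := inf_le_left.trans (f.preimage_mono hle)
    rw [← val_res (mem_chart c) hηW inf_le_right (φ.b c i),
      ← (hb.pull f).coef_spec hW₀ (resM _ (inf_le_right : W ≤ chart 1 k c) (φ.b c i)), val_sum hηW, Finset.sum_div]
    refine (isRat_iota c).reg_sum _ _ fun j _ => ?_
    rw [val_smul hηW, mul_div_assoc]
    refine (isRat_iota c).reg_mul (hx W ⟨hxU, hxc⟩ _) ?_
    have e : resM _ hW₀ (pullSec f (b j)) = resM _ (inf_le_left : W ≤ f ⁻¹ᵁ U) (pullSec f (resM _ hle (b j))) := by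
      rw [← resM_pullSec f hle, resM_resM]
    rw [e, val_res (W := f ⁻¹ᵁ U) hηU hηW]
    exact hspan _
  choose a ha using fun c i => (isRat_iota (k := k) c).exists_eq_of_reg _ (hreg c i)
  have hval : ∀ i, val (mem_chart 0) (φ.b 0 i) = 0 := by
    intro i
    have h01 : val (mem_chart 1) (φ.b 1 i) = val (mem_chart 0) (φ.b 0 i) := by
      have ht := φ.trans i
      rw [hwt i, pow_zero, one_smul] at ht
      rw [← val_res (mem_chart 1) mem_overlap (overlap_le k 1), ← val_res (mem_chart 0) mem_overlap (overlap_le k 0), ht]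
    have h0 := ha 0 i
    have h1 := ha 1 i
    rw [show σ 0 = 1 from if_pos rfl, div_one] at h0
    rw [div_eq_iff (hσ 1), h01, h0, show σ 1 = (-s ^ 2) ^ q from if_neg (by decide)] at h1
    have hzero : chartRing k 0 (a 0 i) = 0 := (eq_zero_of_transition k (a := 2 * q) (by omega)
      (f₁ := chartRing k 1 (Polynomial.C ((-1) ^ q) * a 1 i)) (by
        refine germ_injective_of_isIntegral (P) η (mem_overlap (k := k)) ?_
        rw [map_mul ((P).presheaf.germ (overlap k) η mem_overlap).hom, TopCat.Presheaf.germ_res_apply,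
          TopCat.Presheaf.germ_res_apply, map_pow ((P).presheaf.germ (overlap k) η mem_overlap).hom]
        show iota 0 (a 0 i) = iota 1 (Polynomial.C ((-1) ^ q) * a 1 i) * _ ^ (2 * q)
        rw [show (P).presheaf.germ (overlap k) η mem_overlap (sv k) = s from (P).presheaf.germ_res_apply _ η _ _,
          h1, map_mul, map_pow, map_pow (iota 1), map_neg, map_one, map_neg (iota 1), map_one (iota 1),
          neg_pow (s ^ 2), ← pow_mul]
        ring)).1
    rw [h0]
    show (P).presheaf.germ (chart 1 k 0) η (mem_chart 0) (chartRing k 0 (a 0 i)) = 0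
    rw [hzero, map_zero]
  obtain ⟨U, hU, h, rfl⟩ := X.presheaf.germ_exist r₀
  refine hr₀ ?_
  change Δ _ = 0
  rw [← hLd U hU h]
  let W := f ⁻¹ᵁ U ⊓ chart 1 k 0
  have hηW : η ∈ W := ⟨hU, mem_chart 0⟩
  show val (W := f ⁻¹ᵁ U) hU (pullSec f ((OmegaSh.dOmega sX).app U h)) = 0
  rw [← val_res (W := f ⁻¹ᵁ U) hU hηW inf_le_left,
    ← (φ.basis 0).coef_spec (inf_le_right : W ≤ chart 1 k 0)
      (resM _ (inf_le_left : W ≤ f ⁻¹ᵁ U) (pullSec f ((OmegaSh.dOmega sX).app U h))), val_sum hηW]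
  refine Finset.sum_eq_zero fun i _ => ?_
  rw [val_smul hηW, val_res (mem_chart 0) hηW, hval i, mul_zero]

end Groth.Agent.RCFree24
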