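import Mathlib

/-!
# Derivations through `q`-th roots in a rational function field
-/

set_option autoImplicit false

universe u

open Polynomial

namespace Groth.Agent.RCFree24

variable {k K : Type u} [Field k] [Field K] (ι : k[X] →+* K)

/-- `ι` presents `K` as the field of rational functions. -/
structure IsRat : Prop where
  inj : Function.Injective ι
  surj : ∀ y : K, ∃ a b : k[X], b ≠ 0 ∧ y = ι a / ι b

variable {ι} (hι : IsRat ι)

include hι

theorem IsRat.ne_zero {b : k[X]} (hb : b ≠ 0) : ι b ≠ 0 := (map_ne_zero_iff ι hι.inj).2 hb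

theorem IsRat.exists_reduced (y : K) : ∃ a b : k[X], b ≠ 0 ∧ IsCoprime a b ∧ y = ι a / ι b := by
  classical
  obtain ⟨a, b, hb, rfl⟩ := hι.surj y
  obtain ⟨a', b', ha, hb', hu⟩ := extract_gcd a b
  have hg : gcd a b ≠ 0 := fun h => hb (by rw [hb', h, zero_mul])
  have hb0 : b' ≠ 0 := fun h => hb (by rw [hb', h, mul_zero])
  refine ⟨a', b', hb0, (gcd_isUnit_iff a' b').1 hu, ?_⟩
  have ha1 := congrArg ι ha
  have hb1 := congrArg ι hb'
  rw [map_mul] at ha1 hb1
  rw [ha1, hb1, mul_div_mul_left _ _ (hι.ne_zero hg)]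

/-- The derivative of a rational function. -/
noncomputable def IsRat.d (y : K) : K :=
  ι (derivative (hι.surj y).choose * (hι.surj y).choose_spec.choose -
      (hι.surj y).choose * derivative (hι.surj y).choose_spec.choose) /
    ι ((hι.surj y).choose_spec.choose ^ 2)

theorem IsRat.d_div {a b : k[X]} (hb : b ≠ 0) :
    hι.d (ι a / ι b) = ι (derivative a * b - a * derivative b) / ι (b ^ 2) := by
  obtain ⟨hb', he⟩ := (hι.surj (ι a / ι b)).choose_spec.choose_spec
  have h : a * (hι.surj (ι a / ι b)).choose_spec.choose = (hι.surj (ι a / ι b)).choose * b := by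
    refine hι.inj ?_
    rw [map_mul, map_mul]
    exact (div_eq_div_iff (hι.ne_zero hb) (hι.ne_zero hb')).1 he
  revert h hb'
  unfold IsRat.d
  generalize (hι.surj (ι a / ι b)).choose_spec.choose = b'
  generalize (hι.surj (ι a / ι b)).choose = a'
  intro hb' h
  rw [div_eq_div_iff (hι.ne_zero (pow_ne_zero 2 hb')) (hι.ne_zero (pow_ne_zero 2 hb)), ← map_mul, ← map_mul]
  refine congrArg ι ?_
  have hd := congrArg derivative h
  simp only [derivative_mul] at hd
  linear_combination (a * derivative b' + derivative a' * b) * 0 - b * b' * hd +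
    (b * derivative b' + b' * derivative b) * h

theorem IsRat.d_ι (a : k[X]) : hι.d (ι a) = ι (derivative a) := by
  have h := hι.d_div (a := a) (one_ne_zero (α := k[X]))
  simpa using h

theorem IsRat.d_add (y z : K) : hι.d (y + z) = hι.d y + hι.d z := by
  obtain ⟨a, b, hb, rfl⟩ := hι.surj y
  obtain ⟨a', b', hb', rfl⟩ := hι.surj z
  have h := hι.ne_zero hb
  have h' := hι.ne_zero hb'
  rw [show ι a / ι b + ι a' / ι b' = ι (a * b' + a' * b) / ι (b * b') by
    simp only [map_add, map_mul]; field_simp, hι.d_div (mul_ne_zero hb hb'), hι.d_div hb, hι.d_div hb']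
  simp only [derivative_mul, map_add, map_mul, map_sub, map_pow]
  field_simp
  ring

theorem IsRat.d_mul (y z : K) : hι.d (y * z) = y * hι.d z + z * hι.d y := by
  obtain ⟨a, b, hb, rfl⟩ := hι.surj y
  obtain ⟨a', b', hb', rfl⟩ := hι.surj z
  have h := hι.ne_zero hb
  have h' := hι.ne_zero hb'
  rw [show ι a / ι b * (ι a' / ι b') = ι (a * a') / ι (b * b') by rw [map_mul, map_mul, div_mul_div_comm],
    hι.d_div (mul_ne_zero hb hb'), hι.d_div hb, hι.d_div hb']
  simp only [derivative_mul, map_add, map_mul, map_sub, map_pow]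
  field_simp
  ring

/-- A rational function without derivative is constant or a `p`-th power. -/
theorem IsRat.exists_pow_of_d_eq_zero [IsAlgClosed k] {p : ℕ} (hp : p.Prime) [CharP k p] {y : K}
    (h : hι.d y = 0) : ∃ z, z ^ p = y := by
  haveI := Fact.mk hp
  obtain ⟨a, b, hb, rfl⟩ := hι.surj y
  rw [hι.d_div hb, div_eq_zero_iff, or_iff_left (hι.ne_zero (pow_ne_zero 2 hb)),
    map_eq_zero_iff ι hι.inj] at h
  obtain ⟨r, hr⟩ := Nat.exists_eq_succ_of_ne_zero hp.ne_zero
  have hbp : derivative (b ^ p) = 0 := by rw [derivative_pow, CharP.cast_eq_zero k p, map_zero, zero_mul, zero_mul]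
  have hc : derivative (a * b ^ r) = 0 := by
    refine (mul_eq_zero.1 ?_).resolve_right hb
    have e : derivative (a * b ^ r * b) = derivative a * b ^ p := by
      rw [mul_assoc, ← pow_succ, show r + 1 = p from hr.symm, derivative_mul, hbp, mul_zero, add_zero]
    rw [derivative_mul, hr, pow_succ] at e
    linear_combination e + b ^ r * h
  have hex := expand_contract p hc hp.ne_zero
  let g := (contract p (a * b ^ r)).map (frobeniusEquiv k p).symm.toRingHom
  have hg : g ^ p = a * b ^ r := by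
    rw [← map_frobenius_expand, map_expand, Polynomial.map_map]
    refine Eq.trans ?_ hex
    refine congrArg (expand k p) ?_
    conv_rhs => rw [← Polynomial.map_id (p := contract p (a * b ^ r))]
    congr 1
    ext x
    exact (frobeniusEquiv k p).apply_symm_apply x
  refine ⟨ι g / ι b, ?_⟩
  have h' := hι.ne_zero hb
  rw [div_pow, ← map_pow, hg, map_mul, map_pow, hr, pow_succ]
  field_simp

theorem IsRat.const_of_d_eq_zero [CharZero k] {y : K} (h : hι.d y = 0) : ∃ c, y = ι (C c) := by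
  obtain ⟨a, b, hb, hco, rfl⟩ := hι.exists_reduced y
  rw [hι.d_div hb, div_eq_zero_iff, or_iff_left (hι.ne_zero (pow_ne_zero 2 hb)),
    map_eq_zero_iff ι hι.inj] at h
  have h1 : b ∣ derivative b := hco.symm.dvd_of_dvd_mul_left ⟨derivative a, by linear_combination -h⟩
  have hb1 : b.natDegree = 0 := by
    by_contra hne
    have h2 : derivative b ≠ 0 := fun h0 => hne (natDegree_eq_zero_of_derivative_eq_zero h0)
    exact absurd (natDegree_le_of_dvd h1 h2) (not_le.2 (natDegree_derivative_lt hne))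
  obtain ⟨β, rfl⟩ : ∃ β, b = C β := ⟨_, eq_C_of_natDegree_eq_zero hb1⟩
  have ha : derivative a = 0 := by
    rw [derivative_C, mul_zero, sub_zero] at h
    exact (mul_eq_zero.1 h).resolve_right hb
  have ha1 := eq_C_of_natDegree_eq_zero (natDegree_eq_zero_of_derivative_eq_zero ha)
  have hβ : β ≠ 0 := fun h0 => hb (by rw [h0, map_zero])
  refine ⟨a.coeff 0 / β, ?_⟩
  rw [div_eq_iff (hι.ne_zero hb), ← map_mul, ← map_mul, div_mul_cancel₀ _ hβ, ← ha1]

/-- A nonconstant function is a `q`-th power for bounded `q` only. -/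
theorem IsRat.exists_bound {y : K} (hy : ∀ c, y ≠ ι (C c)) : ∃ N, ∀ q z, 0 < q → z ^ q = y → q ≤ N := by
  obtain ⟨a, b, hb, hco, rfl⟩ := hι.exists_reduced y
  refine ⟨a.natDegree + b.natDegree, fun q z hq hz => ?_⟩
  obtain ⟨c, d, hd, hcd, rfl⟩ := hι.exists_reduced z
  rw [div_pow, div_eq_div_iff (pow_ne_zero _ (hι.ne_zero hd)) (hι.ne_zero hb), ← map_pow, ← map_pow,
    ← map_mul, ← map_mul] at hz
  have he : c ^ q * b = a * d ^ q := hι.inj hz
  have hA : Associated a (c ^ q) := associated_of_dvd_dvd (hco.dvd_of_dvd_mul_right ⟨d ^ q, he⟩)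
    ((hcd.pow (m := q) (n := q)).dvd_of_dvd_mul_right ⟨b, he.symm⟩)
  have hB : Associated b (d ^ q) := associated_of_dvd_dvd
    (hco.symm.dvd_of_dvd_mul_left ⟨c ^ q, by linear_combination -he⟩)
    ((hcd.pow (m := q) (n := q)).symm.dvd_of_dvd_mul_left ⟨a, by linear_combination he⟩)
  have hA' := natDegree_eq_of_degree_eq (degree_eq_degree_of_associated hA)
  have hB' := natDegree_eq_of_degree_eq (degree_eq_degree_of_associated hB)
  rw [natDegree_pow] at hA' hB'
  by_contra hlt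
  have hc0 : c.natDegree = 0 := by
    by_contra h0
    have := Nat.le_mul_of_pos_right q (Nat.pos_of_ne_zero h0)
    omega
  have hd0 : d.natDegree = 0 := by
    by_contra h0
    have := Nat.le_mul_of_pos_right q (Nat.pos_of_ne_zero h0)
    omega
  rw [hc0, mul_zero] at hA'
  rw [hd0, mul_zero] at hB'
  have ea := eq_C_of_natDegree_eq_zero hA'
  have eb := eq_C_of_natDegree_eq_zero hB'
  refine hy (a.coeff 0 / b.coeff 0) ?_
  have hb0 : b.coeff 0 ≠ 0 := fun h0 => hb (by rw [eb, h0, map_zero])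
  rw [div_eq_iff (hι.ne_zero hb), ← map_mul]
  refine congrArg ι ?_
  refine ea.trans (Eq.trans ?_ (congrArg (C (a.coeff 0 / b.coeff 0) * ·) eb.symm))
  rw [← map_mul, div_mul_cancel₀ _ hb0]

omit hι in
/-- Regularity at a prime. -/
def Reg (ι : k[X] →+* K) (P : Ideal k[X]) (y : K) : Prop := ∃ a b : k[X], b ∉ P ∧ y = ι a / ι b

variable {P : Ideal k[X]} [P.IsPrime]

theorem IsRat.reg_ι (a : k[X]) : Reg ι P (ι a) := ⟨a, 1, fun h => Ideal.IsPrime.ne_top' (P.eq_top_of_isUnit_mem h isUnit_one), by simp⟩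

theorem IsRat.reg_mul {y z : K} (hy : Reg ι P y) (hz : Reg ι P z) : Reg ι P (y * z) := by
  obtain ⟨a, b, hb, rfl⟩ := hy
  obtain ⟨a', b', hb', rfl⟩ := hz
  exact ⟨a * a', b * b', Ideal.IsPrime.mul_notMem ‹_› hb hb', by rw [map_mul, map_mul, div_mul_div_comm]⟩

theorem IsRat.reg_sum {σ : Type*} (s : Finset σ) (y : σ → K) (h : ∀ i ∈ s, Reg ι P (y i)) :
    Reg ι P (∑ i ∈ s, y i) := by
  classical
  refine Finset.sum_induction y (Reg ι P) ?_ (by simpa using hι.reg_ι (P := P) 0) h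
  rintro _ _ ⟨a, b, hb, rfl⟩ ⟨a', b', hb', rfl⟩
  refine ⟨a * b' + b * a', b * b', Ideal.IsPrime.mul_notMem ‹_› hb hb', ?_⟩
  have h1 : ι b ≠ 0 := hι.ne_zero (ne_of_mem_of_not_mem P.zero_mem hb).symm
  have h2 : ι b' ≠ 0 := hι.ne_zero (ne_of_mem_of_not_mem P.zero_mem hb').symm
  rw [map_add, map_mul, map_mul, map_mul]
  field_simp

theorem IsRat.reg_pow {y : K} (hy : Reg ι P y) (q : ℕ) : Reg ι P (y ^ q) := by
  induction q with
  | zero => simpa using hι.reg_ι (P := P) 1
  | succ q ih => rw [pow_succ]; exact hι.reg_mul ih hy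

theorem IsRat.reg_d {y : K} (hy : Reg ι P y) : Reg ι P (hι.d y) := by
  obtain ⟨a, b, hb, rfl⟩ := hy
  exact ⟨_, b ^ 2, fun h => hb (Ideal.IsPrime.mem_of_pow_mem ‹_› 2 h), hι.d_div (ne_of_mem_of_not_mem P.zero_mem hb).symm⟩

/-- Regularity passes to roots. -/
theorem IsRat.reg_root {y : K} {q : ℕ} (hq : 0 < q) (hy : Reg ι P (y ^ q)) : Reg ι P y := by
  obtain ⟨c, e, he, h⟩ := hy
  obtain ⟨a, b, hb, hco, rfl⟩ := hι.exists_reduced y
  refine ⟨a, b, fun hbP => he ?_, rfl⟩
  rw [div_pow, div_eq_div_iff (pow_ne_zero _ (hι.ne_zero hb))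
    (hι.ne_zero (ne_of_mem_of_not_mem P.zero_mem he).symm), ← map_pow, ← map_pow, ← map_mul, ← map_mul] at h
  have h' : a ^ q * e = c * b ^ q := hι.inj h
  have hdvd : b ^ q ∣ e := (hco.pow (m := q) (n := q)).symm.dvd_of_dvd_mul_left ⟨c, by linear_combination h'⟩
  exact P.mem_of_dvd hdvd (Ideal.pow_mem_of_mem P hbP q hq)

omit P in
/-- A function regular at every maximal ideal is a polynomial. -/
theorem IsRat.exists_eq_of_reg (y : K) (h : ∀ P : Ideal k[X], P.IsMaximal → Reg ι P y) : ∃ a, y = ι a := by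
  obtain ⟨a, b, hb, hco, rfl⟩ := hι.exists_reduced y
  by_cases hu : IsUnit b
  · obtain ⟨v, rfl⟩ := hu
    refine ⟨a * ↑v⁻¹, ?_⟩
    rw [div_eq_iff (hι.ne_zero v.ne_zero), ← map_mul, mul_assoc, Units.inv_mul, mul_one]
  · exfalso
    obtain ⟨M, hM, hbM⟩ := exists_max_ideal_of_mem_nonunits hu
    obtain ⟨c, e, he, heq⟩ := h M hM
    rw [div_eq_div_iff (hι.ne_zero hb) (hι.ne_zero (ne_of_mem_of_not_mem M.zero_mem he).symm), ← map_mul, ← map_mul] at heq
    have h' : a * e = c * b := hι.inj heq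
    exact he (M.mem_of_dvd (hco.symm.dvd_of_dvd_mul_left ⟨c, by linear_combination h'⟩) hbM)

omit hι in
/-- Derivatives in two coordinates with product one. -/
theorem IsRat.d_change {ι₀ ι₁ : k[X] →+* K} (h₀ : IsRat ι₀) (h₁ : IsRat ι₁)
    (hC : ∀ c, ι₁ (C c) = ι₀ (C c)) (hX : ι₀ X * ι₁ X = 1) (y : K) :
    h₀.d y = -(ι₁ X) ^ 2 * h₁.d y := by
  have hs : h₀.d (ι₁ X) = -(ι₁ X) ^ 2 := by
    have h := h₀.d_mul (ι₀ X) (ι₁ X)
    rw [hX, ← map_one ι₀, h₀.d_ι, h₀.d_ι, derivative_one, map_zero, derivative_X, map_one, mul_one] at h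
    linear_combination -(ι₁ X) * h - h₀.d (ι₁ X) * hX
  have hpoly : ∀ a : k[X], h₀.d (ι₁ a) = -(ι₁ X) ^ 2 * ι₁ (derivative a) := by
    intro a
    induction a using Polynomial.induction_on with
    | C c => rw [hC, h₀.d_ι, derivative_C, map_zero, map_zero, mul_zero]
    | add p r hp hr => simp only [map_add, h₀.d_add, hp, hr]; ring
    | monomial n c ih =>
      rw [pow_succ, ← mul_assoc, map_mul, h₀.d_mul, ih, hs]
      simp only [derivative_mul, derivative_X, map_add, map_mul, map_one]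
      ring
  obtain ⟨a, b, hb, rfl⟩ := h₁.surj y
  have hb' := h₁.ne_zero hb
  have h := h₀.d_mul (ι₁ a / ι₁ b) (ι₁ b)
  rw [div_mul_cancel₀ _ hb', hpoly, hpoly] at h
  rw [h₁.d_div hb, map_sub, map_mul, map_mul, map_pow]
  field_simp
  field_simp at h
  linear_combination -h

/-- A derivation of a ring of nonconstant functions through maximal roots. -/
theorem IsRat.exists_derivation [IsAlgClosed k] {R : Type u} [CommRing R] (φ : R →+* K)
    (hne : ∃ r, ∀ c, φ r ≠ ι (C c)) :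
    ∃ (q : ℕ) (ψ : R → K), 0 < q ∧ (∀ r, ψ r ^ q = φ r) ∧
      (∀ r r', (hι.d (ψ (r + r'))) ^ q = (hι.d (ψ r)) ^ q + (hι.d (ψ r')) ^ q) ∧
      (∀ r r', (hι.d (ψ (r * r'))) ^ q = φ r * (hι.d (ψ r')) ^ q + φ r' * (hι.d (ψ r)) ^ q) ∧
      (∀ r c, φ r = ι (C c) → (hι.d (ψ r)) ^ q = 0) ∧ ∃ r, (hι.d (ψ r)) ^ q ≠ 0 := by
  obtain ⟨p, hp⟩ := ExpChar.exists k
  haveI := hp
  haveI : ExpChar K p := expChar_of_injective_ringHom (f := ι.comp C) (RingHom.injective _) p
  let Q : ℕ → Prop := fun e => ∀ r, ∃ z, z ^ (p ^ e) = φ r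
  have hmain : ∃ e, Q e ∧ ∀ ψ : R → K, (∀ r, ψ r ^ (p ^ e) = φ r) → ∃ r, hι.d (ψ r) ≠ 0 := by
    obtain ⟨r₀, hr₀⟩ := hne
    rcases hp with _ | ⟨hprime⟩
    · refine ⟨0, fun r => ⟨φ r, by simp⟩, fun ψ hψ => ⟨r₀, fun h0 => ?_⟩⟩
      obtain ⟨c, hc⟩ := hι.const_of_d_eq_zero h0
      exact hr₀ c (by rw [← hψ r₀, one_pow, pow_one, hc])
    · have hex : ∃ e, Q e ∧ ¬ Q (e + 1) := by
        by_contra hcon
        push Not at hcon
        have hall : ∀ e, Q e := fun e => by
          induction e with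
          | zero => exact fun r => ⟨φ r, by simp⟩
          | succ e ih => exact hcon e ih
        obtain ⟨N, hN⟩ := hι.exists_bound hr₀
        obtain ⟨z, hz⟩ := hall (N + 1) r₀
        have h1 := hN _ z (pow_pos hprime.pos _) hz
        have h2 := Nat.lt_pow_self (n := N + 1) hprime.one_lt
        omega
      obtain ⟨e, he, hne'⟩ := hex
      refine ⟨e, he, fun ψ hψ => ?_⟩
      by_contra hcon
      push Not at hcon
      refine hne' fun r => ?_
      obtain ⟨z, hz⟩ := hι.exists_pow_of_d_eq_zero hprime (hcon r)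
      exact ⟨z, by rw [pow_succ', pow_mul, hz, hψ r]⟩
  obtain ⟨e, he, hD⟩ := hmain
  choose ψ hψ using he
  have hinj : ∀ y z : K, y ^ (p ^ e) = z ^ (p ^ e) → y = z := fun y z h => iterateFrobenius_inj K p e h
  refine ⟨p ^ e, ψ, pow_pos (expChar_pos k p) e, hψ, fun r r' => ?_, fun r r' => ?_, fun r c hc => ?_, ?_⟩
  · rw [← add_pow_expChar_pow, ← hι.d_add,
      hinj (ψ (r + r')) (ψ r + ψ r') (by rw [add_pow_expChar_pow, hψ, hψ, hψ, map_add])]
  · rw [hinj (ψ (r * r')) (ψ r * ψ r') (by rw [mul_pow, hψ, hψ, hψ, map_mul]), hι.d_mul, add_pow_expChar_pow,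
      mul_pow, mul_pow, hψ, hψ]
  · obtain ⟨γ, hγ⟩ := IsAlgClosed.exists_pow_nat_eq c (pow_pos (expChar_pos k p) e)
    rw [hinj (ψ r) (ι (C γ)) (by rw [hψ, hc, ← map_pow, ← map_pow, hγ]), hι.d_ι, derivative_C, map_zero,
      zero_pow (pow_pos (expChar_pos k p) e).ne']
  · obtain ⟨r, hr⟩ := hD ψ hψ
    exact ⟨r, pow_ne_zero _ hr⟩

end Groth.Agent.RCFree24
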